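import Cfsg.Prelude.Def_ParabolicCharacters
import Cfsg.Prelude.Def_Characters
import Cfsg.Agent.Characters.Induction
import Mathlib.NumberTheory.MulChar.Lemmas

/-!
# The Borel subgroup of SL₂ over a finite field and functions induced from it
-/

set_option autoImplicit false
set_option linter.unusedSectionVars false

namespace CfsgLib.SL2Borel

open scoped MatrixGroups
open Matrix

/-- An induced function as a sum over coset representatives. -/
theorem indFun_eq_sum_reps {G : Type*} [Group G] [Fintype G] (H : Subgroup G) [Fintype H]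
    (θ : H → ℂ) (hθ : ∀ h k : H, θ (k⁻¹ * h * k) = θ h) {ι : Type*} [Fintype ι] (r : ι → G)
    (hr : Function.Bijective fun p : ι × H => r p.1 * (p.2 : G)) (g : G) :
    Cfsg.indFun H θ g = ∑ i, Cfsg.extendByZero H θ ((r i)⁻¹ * g * r i) := by
  have hinv : ∀ (k : H) (y : G),
      Cfsg.extendByZero H θ ((k : G)⁻¹ * y * k) = Cfsg.extendByZero H θ y := by
    intro k y
    by_cases hy : y ∈ H
    · have e : ((k : G)⁻¹ * y * k) = ((k⁻¹ * ⟨y, hy⟩ * k : H) : G) := rfl
      rw [e, CfsgLib.Characters.extendByZero_coe, hθ, CfsgLib.Characters.extendByZero_of_mem H θ hy]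
    · rw [CfsgLib.Characters.extendByZero_of_not_mem H θ hy,
        CfsgLib.Characters.extendByZero_of_not_mem]
      intro h
      apply hy
      have := mul_mem (mul_mem k.2 h) (inv_mem k.2)
      simpa [mul_assoc] using this
  have key : ∑ x : G, Cfsg.extendByZero H θ (x⁻¹ * g * x) =
      ∑ i, ∑ k : H, Cfsg.extendByZero H θ ((r i)⁻¹ * g * r i) := by
    rw [← Fintype.sum_prod_type']
    refine (Fintype.sum_bijective _ hr _ _ fun p => ?_).symm
    rw [show (r p.1 * (p.2 : G))⁻¹ * g * (r p.1 * p.2) =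
      (p.2 : G)⁻¹ * ((r p.1)⁻¹ * g * r p.1) * p.2 by group, hinv]
  rw [Cfsg.indFun, key]
  simp only [Finset.sum_const, Finset.card_univ, nsmul_eq_mul, ← Finset.mul_sum,
    ← Nat.card_eq_fintype_card]
  rw [← mul_assoc, inv_mul_cancel₀ (CfsgLib.Characters.subgroup_card_ne_zero H), one_mul]

variable {F : Type*} [Field F]

/-- The Borel subgroup of SL₂. -/
abbrev borel (F : Type*) [Field F] : Subgroup SL(2, F) :=
  (Cfsg.upperTriangularGL 2 F).comap Matrix.SpecialLinearGroup.toGL

theorem mem_borel {g : SL(2, F)} : g ∈ borel F ↔ g 1 0 = 0 := by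
  show (g.1).BlockTriangular id ↔ _
  constructor
  · exact fun h => h (by decide)
  · intro h i j hij
    fin_cases i <;> fin_cases j <;> simp_all

theorem entries_mul {g : SL(2, F)} (hg : g ∈ borel F) : g 0 0 * g 1 1 = 1 := by
  have h := g.2
  rw [Matrix.det_fin_two, mem_borel.1 hg] at h
  simpa using h

/-- The element `[[a, x], [0, a⁻¹]]`. -/
def mk (a : Fˣ) (x : F) : SL(2, F) :=
  ⟨!![(a : F), x; 0, ↑a⁻¹], by simp [Matrix.det_fin_two]⟩

theorem coe_mk (a : Fˣ) (x : F) : (mk a x).1 = !![(a : F), x; 0, ↑a⁻¹] := rfl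

/-- Coordinates on the Borel subgroup. -/
def borelEquiv (F : Type*) [Field F] : Fˣ × F ≃ borel F where
  toFun p := ⟨mk p.1 p.2, mem_borel.2 (by simp [mk])⟩
  invFun b := (⟨(b : SL(2, F)) 0 0, (b : SL(2, F)) 1 1, entries_mul b.2,
    by rw [mul_comm]; exact entries_mul b.2⟩, (b : SL(2, F)) 0 1)
  left_inv p := by ext <;> simp [mk]
  right_inv b := by
    apply Subtype.ext
    apply Matrix.SpecialLinearGroup.ext
    intro i j
    fin_cases i <;> fin_cases j <;> simp [mk]
    · exact (mem_borel.1 b.2).symm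

theorem card_borel [Fintype F] :
    Nat.card (borel F) = (Fintype.card F - 1) * Fintype.card F := by
  rw [← Nat.card_congr (borelEquiv F), Nat.card_prod, Nat.card_units, Nat.card_eq_fintype_card]

/-- The representative of the coset with first column proportional to `(c, 1)`. -/
def cosetRep (F : Type*) [Field F] : Option F → SL(2, F)
  | none => 1
  | some c => ⟨!![c, -1; 1, 0], by simp [Matrix.det_fin_two]⟩

theorem coe_cosetRep_some (c : F) : (cosetRep F (some c) : SL(2, F)).1 = !![c, -1; 1, 0] := rfl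

theorem coe_cosetRep_none : (cosetRep F none : SL(2, F)).1 = 1 := rfl

theorem cosetRep_inv_mul_apply (c : F) (g : SL(2, F)) :
    ((cosetRep F (some c))⁻¹ * g : SL(2, F)).1 = !![g 1 0, g 1 1; c * g 1 0 - g 0 0, c * g 1 1 - g 0 1] := by
  rw [Matrix.SpecialLinearGroup.coe_mul, Matrix.SpecialLinearGroup.coe_inv]
  ext i j
  fin_cases i <;> fin_cases j <;>
    simp [cosetRep, Matrix.adjugate_fin_two, Matrix.mul_apply, Fin.sum_univ_two] <;> ring

theorem cosetRep_bijective :
    Function.Bijective fun p : Option F × borel F => cosetRep F p.1 * (p.2 : SL(2, F)) := by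
  constructor
  · rintro ⟨i, b⟩ ⟨j, b'⟩ h
    have h' : cosetRep F i * (b : SL(2, F)) = cosetRep F j * (b' : SL(2, F)) := h
    have e10 := congrArg (fun g : SL(2, F) => g 1 0) h'
    have e00 := congrArg (fun g : SL(2, F) => g 0 0) h'
    have hb := mem_borel.1 b.2
    have hb' := mem_borel.1 b'.2
    have hn : (b : SL(2, F)) 0 0 ≠ 0 := left_ne_zero_of_mul_eq_one (entries_mul b.2)
    have hn' : (b' : SL(2, F)) 0 0 ≠ 0 := left_ne_zero_of_mul_eq_one (entries_mul b'.2)
    obtain rfl : i = j := by
      cases i <;> cases j <;>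
        simp [coe_cosetRep_some, coe_cosetRep_none, Matrix.SpecialLinearGroup.coe_mul, Matrix.mul_apply,
          Fin.sum_univ_two, hb, hb'] at e10 e00
      · rfl
      · exact absurd e10.symm hn'
      · exact absurd e10 hn
      · rw [← e10] at e00
        rw [mul_right_cancel₀ hn e00]
    exact Prod.ext rfl (Subtype.ext (mul_left_cancel h'))
  · intro g
    by_cases hg : g 1 0 = 0
    · exact ⟨(none, ⟨g, mem_borel.2 hg⟩), by simp [cosetRep]⟩
    · refine ⟨(some (g 0 0 / g 1 0), ⟨(cosetRep F (some (g 0 0 / g 1 0)))⁻¹ * g, mem_borel.2 ?_⟩),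
        by simp⟩
      show ((cosetRep F (some (g 0 0 / g 1 0)))⁻¹ * g : SL(2, F)).1 1 0 = 0
      rw [cosetRep_inv_mul_apply]
      simp [hg]

/-- The linear character `b ↦ α(b₁₁)`. -/
noncomputable def chi (α : MulChar F ℂ) (b : borel F) : ℂ := α ((b : SL(2, F)) 0 0)

variable [Fintype F] [DecidableEq F]

theorem chi_mul (α : MulChar F ℂ) (b b' : borel F) : chi α (b * b') = chi α b * chi α b' := by
  simp [chi, Matrix.mul_apply, Fin.sum_univ_two, mem_borel.1 b'.2]

theorem chi_conj (α : MulChar F ℂ) (h k : borel F) : chi α (k⁻¹ * h * k) = chi α h := by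
  have h1 : chi α (k⁻¹ * k) = 1 := by simp [chi]
  rw [chi_mul, chi_mul, mul_comm (chi α k⁻¹), mul_assoc, ← chi_mul, h1, mul_one]

/-- The induced character `R(α)` as a sum over the roots of a quadratic polynomial. -/
theorem indFun_borel (α : MulChar F ℂ) (g : SL(2, F)) :
    Cfsg.indFun (borel F) (chi α) g =
      (if g 1 0 = 0 then α (g 0 0) else 0) +
        ∑ c : F, if g 1 0 * c ^ 2 + (g 1 1 - g 0 0) * c - g 0 1 = 0
          then α (g 1 0 * c + g 1 1) else 0 := by
  classical
  rw [indFun_eq_sum_reps _ _ (chi_conj α) _ cosetRep_bijective, Fintype.sum_option]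
  congr 1
  · simp only [cosetRep, inv_one, one_mul, mul_one]
    split_ifs with h
    · rw [CfsgLib.Characters.extendByZero_of_mem _ _ (mem_borel.2 h)]
      rfl
    · exact CfsgLib.Characters.extendByZero_of_not_mem _ _ (mt mem_borel.1 h)
  · refine Finset.sum_congr rfl fun c _ => ?_
    have e : ((cosetRep F (some c))⁻¹ * g * cosetRep F (some c) : SL(2, F)).1 =
        !![g 1 0 * c + g 1 1, -g 1 0;
          g 1 0 * c ^ 2 + (g 1 1 - g 0 0) * c - g 0 1, g 0 0 - c * g 1 0] := by
      rw [Matrix.SpecialLinearGroup.coe_mul, cosetRep_inv_mul_apply]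
      ext i j
      fin_cases i <;> fin_cases j <;>
        simp [cosetRep, Matrix.mul_apply, Fin.sum_univ_two] <;> ring
    split_ifs with h
    · have hm : (cosetRep F (some c))⁻¹ * g * cosetRep F (some c) ∈ borel F := by
        rw [mem_borel]
        show ((cosetRep F (some c))⁻¹ * g * cosetRep F (some c) : SL(2, F)).1 1 0 = 0
        rw [e]
        simpa using h
      rw [CfsgLib.Characters.extendByZero_of_mem _ _ hm]
      show α (((cosetRep F (some c))⁻¹ * g * cosetRep F (some c) : SL(2, F)).1 0 0) = _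
      rw [e]
      simp
    · refine CfsgLib.Characters.extendByZero_of_not_mem _ _ fun hm => h ?_
      have h' : ((cosetRep F (some c))⁻¹ * g * cosetRep F (some c) : SL(2, F)).1 1 0 = 0 :=
        mem_borel.1 hm
      rw [e] at h'
      simpa using h'

/-- The number of commuting pairs of the Borel subgroup in coordinates. -/
theorem card_commuting (hodd : Odd (Fintype.card F)) :
    Nat.card {z : (Fˣ × F) × (Fˣ × F) //
        ((z.1.1 : F) - (↑z.1.1⁻¹ : F)) * z.2.2 = ((z.2.1 : F) - (↑z.2.1⁻¹ : F)) * z.1.2} =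
      (Fintype.card F + 3) * ((Fintype.card F - 1) * Fintype.card F) := by
  classical
  set q := Fintype.card F with hq
  let e : {z : (Fˣ × F) × (Fˣ × F) //
        ((z.1.1 : F) - (↑z.1.1⁻¹ : F)) * z.2.2 = ((z.2.1 : F) - (↑z.2.1⁻¹ : F)) * z.1.2} ≃
      Σ ab : Fˣ × Fˣ, {xy : F × F //
        ((ab.1 : F) - (↑ab.1⁻¹ : F)) * xy.2 = ((ab.2 : F) - (↑ab.2⁻¹ : F)) * xy.1} :=
    { toFun := fun z => ⟨(z.1.1.1, z.1.2.1), ⟨(z.1.1.2, z.1.2.2), z.2⟩⟩
      invFun := fun w => ⟨((w.1.1, w.2.1.1), (w.1.2, w.2.1.2)), w.2.2⟩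
      left_inv := fun _ => rfl
      right_inv := fun _ => rfl }
  let d : Fˣ → F := fun a => (a : F) - (↑a⁻¹ : F)
  have hcard : ∀ ab : Fˣ × Fˣ, Nat.card {xy : F × F // d ab.1 * xy.2 = d ab.2 * xy.1} =
      q + if d ab.1 = 0 ∧ d ab.2 = 0 then q ^ 2 - q else 0 := by
    rintro ⟨a, b⟩
    by_cases ha : d a = 0
    · by_cases hb : d b = 0
      · rw [if_pos ⟨ha, hb⟩, Nat.card_congr (Equiv.subtypeUnivEquiv fun xy => by simp [ha, hb]),
          Nat.card_prod, Nat.card_eq_fintype_card, ← hq, ← sq,
          Nat.add_sub_cancel' (Nat.le_self_pow two_ne_zero q)]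
      · rw [if_neg (by simp [hb]), add_zero, hq, ← Nat.card_eq_fintype_card]
        refine Nat.card_congr
          { toFun := fun z => z.1.2
            invFun := fun y => ⟨(0, y), by simp [ha]⟩
            left_inv := fun z => ?_
            right_inv := fun y => rfl }
        have h := z.2
        simp [ha, hb] at h
        exact Subtype.ext (Prod.ext h.symm rfl)
    · rw [if_neg (by simp [ha]), add_zero, hq, ← Nat.card_eq_fintype_card]
      refine Nat.card_congr
        { toFun := fun z => z.1.1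
          invFun := fun x => ⟨(x, d b * x / d a), mul_div_cancel₀ _ ha⟩
          left_inv := fun z => ?_
          right_inv := fun x => rfl }
      have h := z.2
      refine Subtype.ext (Prod.ext rfl ?_)
      exact ((eq_div_iff ha).2 (by rw [mul_comm]; exact h)).symm
  have h2 : ((Finset.univ : Finset Fˣ).filter fun a => d a = 0) = {1, -1} := by
    ext a
    have e : d a = 0 ↔ (a : F) * a = 1 := by
      rw [sub_eq_zero, Units.val_inv_eq_inv_val]
      exact (mul_eq_one_iff_eq_inv₀ (Units.ne_zero a)).symm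
    rw [Finset.mem_filter, e, mul_self_eq_one_iff, Finset.mem_insert, Finset.mem_singleton,
      ← Units.val_eq_one, Units.ext_iff (v := (-1 : Fˣ)), Units.val_neg, Units.val_one]
    exact ⟨fun h => h.2, fun h => ⟨Finset.mem_univ _, h⟩⟩
  have hcount : ((Finset.univ : Finset (Fˣ × Fˣ)).filter fun ab => d ab.1 = 0 ∧ d ab.2 = 0).card
      = 4 := by
    have hne : (1 : Fˣ) ≠ -1 := by
      intro h
      have hchar : ringChar F ≠ 2 := by
        intro h2'
        have := FiniteField.even_card_of_char_two h2'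
        rw [← hq] at this
        obtain ⟨k, hk⟩ := hodd
        omega
      exact Ring.neg_one_ne_one_of_char_ne_two hchar (congrArg Units.val h).symm
    have hp : ((Finset.univ : Finset (Fˣ × Fˣ)).filter fun ab => d ab.1 = 0 ∧ d ab.2 = 0) =
        ((Finset.univ : Finset Fˣ).filter fun a => d a = 0) ×ˢ
          ((Finset.univ : Finset Fˣ).filter fun a => d a = 0) := by
      ext; simp
    rw [hp, Finset.card_product, h2, Finset.card_pair hne]
  rw [Nat.card_congr e, Nat.card_sigma, Finset.sum_congr rfl fun ab _ => hcard ab,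
    Finset.sum_add_distrib, Finset.sum_const, Finset.card_univ, Fintype.card_prod,
    Fintype.card_units, ← Finset.sum_filter, Finset.sum_const, hcount, ← hq, smul_eq_mul,
    smul_eq_mul]
  have hq1 : 1 < q := hq ▸ Fintype.one_lt_card
  obtain ⟨k, hk⟩ : ∃ k, q = k + 2 := ⟨q - 2, by omega⟩
  rw [hk]
  rw [show (k + 2) ^ 2 - (k + 2) = (k + 2) * (k + 1) by
    rw [Nat.sub_eq_iff_eq_add (Nat.le_self_pow two_ne_zero _)]; ring]
  simp only [show k + 2 - 1 = k + 1 from rfl]
  ring

end CfsgLib.SL2Borel
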